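import Mathlib
import Cfsg.Prelude.Def_Characters
import Cfsg.Agent.Characters.Core
import Cfsg.Agent.Characters.Central
import Cfsg.Agent.Characters.Values
import Cfsg.Agent.FastGrp
import Cfsg.Agent.Prune
set_option linter.all false
prune_inst 0x7f00000000000000000000000000000000000000000000000000000000000000000000000000000000000000000000000000000000000000000000000000000000000000000000000000000000000000003ffffffffffffffffffff7ffffffbeffbde3feffff
open scoped Cfsg.Agent.FastGrp

/-!
# S4324, PI-C2: Vandermonde on central characters (helper618, task 4377)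
-/

set_option autoImplicit false
set_option linter.unusedSectionVars false

namespace Cfsg.Agent.H618.Pi

open Subgroup Cfsg Representation
open scoped ComplexConjugate

universe u

variable {G : Type u} [Group G] [Finite G] {ι : Type*} [Fintype ι]

/-- A conjugation invariant family acts by a scalar. -/
theorem exists_scalar (h : ι → G) (hconj : ∀ g : G, ∃ σ : Equiv.Perm ι, ∀ i, h (σ i) = g * h i * g⁻¹)
    {χ : G → ℂ} (hχ : IsIrrCharacter G χ) : ∃ w : ℂ, ∀ x, ∑ i, χ (x * h i) = w * χ x := by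
  obtain ⟨n, ρ, hρ, rfl⟩ := hχ
  obtain ⟨w, hw⟩ := Cfsg.Agent.Characters.Central.exists_smul_of_comm ρ hρ (∑ i, ρ (h i)) (by
    intro g
    obtain ⟨σ, hσ⟩ := hconj g
    rw [Finset.sum_mul, Finset.mul_sum, ← Equiv.sum_comp σ]
    refine Finset.sum_congr rfl fun i _ => ?_
    rw [hσ, ← map_mul, ← map_mul]
    congr 1
    group)
  refine ⟨w, fun x => ?_⟩
  have h1 := congrArg (fun f => LinearMap.trace ℂ (Fin n → ℂ) (ρ x * f)) hw
  simp only [Finset.mul_sum, map_sum] at h1
  rw [mul_smul_comm, mul_one, map_smul, smul_eq_mul] at h1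
  rw [← show LinearMap.trace ℂ (Fin n → ℂ) (ρ x) = ρ.character x from rfl, ← h1]
  refine Finset.sum_congr rfl fun i _ => ?_
  rw [← map_mul]
  rfl

/-- If the scalar is the number of elements of a generating family then the character is trivial. -/
theorem eq_one_of_scalar (h : ι → G) (hgen : closure (Set.range h) = ⊤) {χ : G → ℂ} (hχ : IsIrrCharacter G χ)
    (hw : ∑ i, χ (h i) = (Fintype.card ι : ℂ) * χ 1) (g : G) : χ g = 1 := by
  classical
  have hGf : Fintype G := Fintype.ofFinite G
  have key : ∀ g, χ g = χ 1 := by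
    obtain ⟨n, ρ, hρ, rfl⟩ := id hχ
    have h1 : ρ.character 1 = (Module.finrank ℂ (Fin n → ℂ) : ℂ) := char_one ρ
    have hre : ∀ i, (ρ.character (h i)).re ≤ Module.finrank ℂ (Fin n → ℂ) := fun i =>
      (Complex.re_le_norm _).trans (Cfsg.Agent.Characters.Values.norm_character_le ρ (h i))
    have hsum : ∑ i, (ρ.character (h i)).re = ∑ _i : ι, (Module.finrank ℂ (Fin n → ℂ) : ℝ) := by
      have h2 := congrArg Complex.re hw
      rw [Complex.re_sum, h1] at h2
      rw [h2, Finset.sum_const, Finset.card_univ, nsmul_eq_mul]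
      norm_cast
    have heq : ∀ i, (ρ.character (h i)).re = Module.finrank ℂ (Fin n → ℂ) := fun i =>
      (Finset.sum_eq_sum_iff_of_le (fun i _ => hre i)).1 hsum i (Finset.mem_univ i)
    have hval : ∀ i, ρ.character (h i) = (Module.finrank ℂ (Fin n → ℂ) : ℂ) := by
      intro i
      have h3 := Cfsg.Agent.Characters.Values.norm_character_le ρ (h i)
      have h4 : Complex.normSq (ρ.character (h i)) ≤ (Module.finrank ℂ (Fin n → ℂ) : ℝ) ^ 2 := by
        rw [Complex.normSq_eq_norm_sq]
        exact pow_le_pow_left₀ (norm_nonneg _) h3 2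
      rw [Complex.normSq_apply, heq i] at h4
      have h5 : (ρ.character (h i)).im = 0 := by nlinarith
      apply Complex.ext
      · rw [heq i]; simp
      · rw [h5]; simp
    have hker : ∀ g : G, g ∈ (MonoidHom.ker ρ : Subgroup G) := by
      have h6 : closure (Set.range h) ≤ MonoidHom.ker ρ := by
        rw [closure_le]
        rintro _ ⟨i, rfl⟩
        exact (Cfsg.Agent.Characters.Values.character_eq_finrank_iff ρ (h i)).1 (hval i)
      rw [hgen] at h6
      exact fun g => h6 (mem_top g)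
    intro g
    rw [Representation.character, Representation.character, (hker g : ρ g = 1), map_one ρ]
  have h1 : classInner χ (1 : G → ℂ) ≠ 0 := by
    rw [Cfsg.classInner]
    simp only [key, Pi.one_apply, map_one, mul_one, Finset.sum_const, Finset.card_univ, nsmul_eq_mul]
    rw [← Nat.card_eq_fintype_card, ← mul_assoc,
      inv_mul_cancel₀ (Cfsg.Agent.Characters.Core.card_ne_zero_complex), one_mul]
    exact Cfsg.Agent.Characters.Core.isIrr_apply_one_ne_zero hχ
  have h2 : χ = 1 := by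
    by_contra hne
    exact h1 (Cfsg.Agent.Characters.Core.classInner_irr_ne hχ Cfsg.Agent.Characters.Core.isIrr_one hne)
  rw [h2]
  rfl

theorem sum_pow_eq_zero (h : ι → G) (I : Finset (IrrCharacter G)) (a w : IrrCharacter G → ℂ)
    (hw : ∀ (χ : IrrCharacter G) (x : G), ∑ i, (χ : G → ℂ) (x * h i) = w χ * (χ : G → ℂ) x) :
    ∀ (k : ℕ) (x : G), (∀ l : List ι, l.length = k → ∑ χ ∈ I, a χ * (χ : G → ℂ) (x * (l.map h).prod) = 0) →
      ∑ χ ∈ I, a χ * w χ ^ k * (χ : G → ℂ) x = 0
  | 0, x, hx => by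
    have := hx [] rfl
    simpa using this
  | k + 1, x, hx => by
    have h1 : ∀ i, ∑ χ ∈ I, a χ * w χ ^ k * (χ : G → ℂ) (x * h i) = 0 := by
      intro i
      refine sum_pow_eq_zero h I a w hw k (x * h i) fun l hl => ?_
      have := hx (i :: l) (by rw [List.length_cons, hl])
      simpa [mul_assoc] using this
    have h2 : ∑ i, ∑ χ ∈ I, a χ * w χ ^ k * (χ : G → ℂ) (x * h i) = 0 := Finset.sum_eq_zero fun i _ => h1 i
    rw [Finset.sum_comm] at h2
    rw [← h2]
    refine Finset.sum_congr rfl fun χ _ => ?_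
    rw [← Finset.mul_sum, hw, pow_succ]
    ring

/-- **PI-C2.** -/
theorem exists_prod {G : Type u} [Group G] [Finite G] {ι : Type*} [Finite ι] (h : ι → G)
    (hconj : ∀ g : G, ∃ σ : Equiv.Perm ι, ∀ i, h (σ i) = g * h i * g⁻¹) (hgen : closure (Set.range h) = ⊤)
    (I : Finset (IrrCharacter G)) (a : IrrCharacter G → ℂ) (χ₁ : IrrCharacter G) (h1 : ∀ g, (χ₁ : G → ℂ) g = 1)
    (hI : χ₁ ∈ I) (ha : a χ₁ ≠ 0) {e : ℕ} (he : I.card ≤ e + 1) :
    ∃ l : List ι, l.length ≤ e ∧ ∑ χ ∈ I, a χ * (χ : G → ℂ) (l.map h).prod ≠ 0 := by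
  classical
  have hιf : Fintype ι := Fintype.ofFinite ι
  by_contra hno
  push Not at hno
  choose w hw using fun χ : IrrCharacter G => exists_scalar h hconj χ.2
  have hk : ∀ k ≤ e, ∑ χ ∈ I, a χ * (χ : G → ℂ) 1 * w χ ^ k = 0 := by
    intro k hk
    rw [← sum_pow_eq_zero h I a w hw k 1 fun l hl => by rw [one_mul]; exact hno l (hl ▸ hk)]
    exact Finset.sum_congr rfl fun χ _ => by ring
  have hw1 : w χ₁ = Fintype.card ι := by
    have h2 := hw χ₁ 1
    simp only [h1, Finset.sum_const, Finset.card_univ, nsmul_eq_mul, mul_one] at h2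
    exact h2.symm
  have honly : ∀ χ ∈ I, χ ≠ χ₁ → w χ ≠ w χ₁ := by
    intro χ _ hne he
    apply hne
    apply Subtype.ext
    funext g
    rw [h1 g]
    refine eq_one_of_scalar h hgen χ.2 ?_ g
    have h2 := hw χ 1
    simp only [one_mul] at h2
    rw [h2, he, hw1]
  -- the polynomial
  obtain ⟨P, hP⟩ : ∃ P : Polynomial ℂ, P = ∏ χ ∈ I.erase χ₁, (Polynomial.X - Polynomial.C (w χ)) := ⟨_, rfl⟩
  have hdeg : P.natDegree ≤ e := by
    rw [hP, Polynomial.natDegree_prod_of_monic _ _ fun χ _ => Polynomial.monic_X_sub_C _]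
    simp only [Polynomial.natDegree_X_sub_C, Finset.sum_const, smul_eq_mul, mul_one]
    rw [Finset.card_erase_of_mem hI]
    omega
  have hsum : ∑ χ ∈ I, a χ * (χ : G → ℂ) 1 * P.eval (w χ) = 0 := by
    simp only [Polynomial.eval_eq_sum_range, Finset.mul_sum]
    rw [Finset.sum_comm]
    refine Finset.sum_eq_zero fun k hk' => ?_
    have h2 := hk k ((Nat.lt_succ_iff.1 (Finset.mem_range.1 hk')).trans hdeg)
    calc ∑ χ ∈ I, a χ * (χ : G → ℂ) 1 * (P.coeff k * w χ ^ k)
        = P.coeff k * ∑ χ ∈ I, a χ * (χ : G → ℂ) 1 * w χ ^ k := by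
          rw [Finset.mul_sum]
          exact Finset.sum_congr rfl fun χ _ => by ring
      _ = 0 := by rw [h2, mul_zero]
  have h0 : ∀ χ ∈ I, χ ≠ χ₁ → a χ * (χ : G → ℂ) 1 * P.eval (w χ) = 0 := by
    intro χ hχ hne
    have h2 : P.eval (w χ) = 0 := by
      rw [hP, Polynomial.eval_prod]
      refine Finset.prod_eq_zero (Finset.mem_erase.2 ⟨hne, hχ⟩) ?_
      simp
    rw [h2, mul_zero]
  rw [Finset.sum_eq_single_of_mem χ₁ hI h0, h1] at hsum
  have h3 : P.eval (w χ₁) ≠ 0 := by
    rw [hP, Polynomial.eval_prod, Finset.prod_ne_zero_iff]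
    intro χ hχ
    obtain ⟨hne, hχI⟩ := Finset.mem_erase.1 hχ
    simp only [Polynomial.eval_sub, Polynomial.eval_X, Polynomial.eval_C]
    exact sub_ne_zero.2 (honly χ hχI hne).symm
  rw [mul_one] at hsum
  exact (mul_ne_zero ha h3) hsum

end Cfsg.Agent.H618.Pi

private theorem dce_f8624b70a79b : _root_.True := by
  try have : _root_.True := by simp only [_root_.Cfsg.classInner.eq_1]
  exact _root_.True.intro
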